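import Cfsg.Agent.Lib.Transfer.PResidual
import Cfsg.Agent.Lib.PLocal.ZJFactorization

/-! The theorem of Sims and Glauberman on a subgroup meeting a conjugate in prime index. -/

set_option autoImplicit false

open scoped Pointwise commutatorElement

universe u

namespace CfsgLib.SimsChain

variable {G : Type u} [Group G] [Finite G] {p : ℕ} [hp : Fact p.Prime]

/-! ### Index `p` in a `p`-group -/

theorem le_normalizer_of_relIndex {A C : Subgroup G} (hC : IsPGroup p C) (hAC : A ≤ C)
    (h : A.relIndex C = p) : C ≤ Subgroup.normalizer (A : Set G) := by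
  have hne : A ≠ C := fun e => hp.out.ne_one (by rw [← h, e, Subgroup.relIndex_self])
  have hlt := CfsgLib.PLoc.lt_inf_normalizer_of_pgroup hC (lt_of_le_of_ne hAC hne)
  have h1 := Subgroup.relIndex_mul_relIndex A (C ⊓ Subgroup.normalizer (A : Set G)) C hlt.le inf_le_left
  rw [h] at h1
  rcases hp.out.eq_one_or_self_of_dvd _ ⟨_, h1.symm⟩ with h2 | h2
  · exact absurd (Subgroup.relIndex_eq_one.1 h2) (not_le_of_gt hlt)
  · rw [h2] at h1
    have h3 : (C ⊓ Subgroup.normalizer (A : Set G)).relIndex C = 1 :=
      (mul_eq_left₀ hp.out.ne_zero).1 h1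
    exact (Subgroup.relIndex_eq_one.1 h3).trans inf_le_right

omit [Finite G] in
theorem relIndex_sup_of_normalizer {A B : Subgroup G} (h : B ≤ Subgroup.normalizer (A : Set G)) :
    A.relIndex (B ⊔ A) = A.relIndex B := by
  haveI : (A.subgroupOf (B ⊔ A)).Normal :=
    (Subgroup.normal_subgroupOf_iff_le_normalizer le_sup_right).2 (sup_le h Subgroup.le_normalizer)
  rw [← Subgroup.relIndex_subgroupOf (le_refl (B ⊔ A)),
    ← Subgroup.relIndex_subgroupOf (le_sup_left : B ≤ B ⊔ A)]
  rw [Subgroup.subgroupOf_sup le_sup_left le_sup_right, Subgroup.relIndex_sup_right]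

theorem sup_eq_of_relIndex {A B C : Subgroup G} (hA : A ≤ C) (hB : B ≤ C)
    (hAi : A.relIndex C = p) (hBi : B.relIndex C = p) (hne : A ≠ B) : A ⊔ B = C := by
  have h1 := Subgroup.relIndex_mul_relIndex A (A ⊔ B) C le_sup_left (sup_le hA hB)
  rw [hAi] at h1
  rcases hp.out.eq_one_or_self_of_dvd _ ⟨_, h1.symm⟩ with h2 | h2
  · exfalso
    have hBA : B ≤ A := le_sup_right.trans (Subgroup.relIndex_eq_one.1 h2)
    have h3 := Subgroup.relIndex_mul_relIndex B A C hBA hA
    rw [hAi, hBi] at h3
    exact hne (le_antisymm (Subgroup.relIndex_eq_one.1 ((mul_eq_right₀ hp.out.ne_zero).1 h3)) hBA)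
  · rw [h2] at h1
    exact le_antisymm (sup_le hA hB)
      (Subgroup.relIndex_eq_one.1 ((mul_eq_left₀ hp.out.ne_zero).1 h1))

theorem relIndex_inf {A B C : Subgroup G} (hC : IsPGroup p C) (hA : A ≤ C) (hB : B ≤ C)
    (hAi : A.relIndex C = p) (hBi : B.relIndex C = p) (hne : A ≠ B) :
    (A ⊓ B).relIndex A = p ∧ (A ⊓ B).relIndex B = p := by
  have key : ∀ {A B : Subgroup G}, A ≤ C → B ≤ C → A.relIndex C = p → B.relIndex C = p → A ≠ B →
      (A ⊓ B).relIndex B = p := by
    intro A B hA hB hAi hBi hne
    have hBn := hB.trans (le_normalizer_of_relIndex hC hA hAi)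
    have h1 := relIndex_sup_of_normalizer hBn
    rw [sup_comm, sup_eq_of_relIndex hA hB hAi hBi hne, hAi] at h1
    rw [Subgroup.inf_relIndex_right, ← h1]
  exact ⟨by rw [inf_comm]; exact key hB hA hBi hAi hne.symm, key hA hB hAi hBi hne⟩

/-! ### The chain -/

/-- Conjugation `S ↦ g⁻¹ S g`. -/
def down (g : G) (S : Subgroup G) : Subgroup G := S.map (MulAut.conj g⁻¹).toMonoidHom

/-- Conjugation `S ↦ g S g⁻¹`. -/
def up (g : G) (S : Subgroup G) : Subgroup G := S.map (MulAut.conj g).toMonoidHom

/-- `P ∩ P^g ∩ ⋯ ∩ P^{g^k}`. -/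
def chain (P : Subgroup G) (g : G) : ℕ → Subgroup G
  | 0 => P
  | k + 1 => chain P g k ⊓ down g (chain P g k)

omit [Finite G] in
theorem up_down (g : G) (S : Subgroup G) : up g (down g S) = S := by
  rw [up, down, Subgroup.map_map]
  convert Subgroup.map_id S using 2
  ext x
  simp [mul_assoc]

omit [Finite G] in
theorem down_up (g : G) (S : Subgroup G) : down g (up g S) = S := by
  rw [up, down, Subgroup.map_map]
  convert Subgroup.map_id S using 2
  ext x
  simp [mul_assoc]

omit [Finite G] in
theorem down_mono (g : G) {S T : Subgroup G} (h : S ≤ T) : down g S ≤ down g T := Subgroup.map_mono h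

omit [Finite G] in
theorem relIndex_down (g : G) (S T : Subgroup G) : (down g S).relIndex (down g T) = S.relIndex T :=
  Subgroup.relIndex_map_map_of_injective S T (MulAut.conj g⁻¹).injective

omit [Finite G] in
theorem card_down (g : G) (S : Subgroup G) : Nat.card (down g S) = Nat.card S :=
  Subgroup.card_map_of_injective (MulAut.conj g⁻¹).injective

/-- The hypotheses. -/
structure Setup (P : Subgroup G) (g : G) (p : ℕ) : Prop where
  pgroup : IsPGroup p P
  index₁ : (P ⊓ down g P).relIndex (down g P) = p
  index₀ : (P ⊓ down g P).relIndex P = p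
  faithful : ∀ Q : Subgroup G, Q ≤ P → P ≤ Subgroup.normalizer (Q : Set G) → down g Q = Q → Q = ⊥

variable {P : Subgroup G} {g : G}

omit [Finite G] in
theorem chain_succ_le (k : ℕ) : chain P g (k + 1) ≤ chain P g k := inf_le_left

omit [Finite G] in
theorem chain_le_of_le {i k : ℕ} (h : i ≤ k) : chain P g k ≤ chain P g i := by
  induction k, h using Nat.le_induction with
  | base => exact le_rfl
  | succ k _ ih => exact (chain_succ_le k).trans ih

omit [Finite G] in
theorem chain_succ_le_down (k : ℕ) : chain P g (k + 1) ≤ down g (chain P g k) := inf_le_right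

theorem Setup.chain_pgroup (hs : Setup P g p) (k : ℕ) : IsPGroup p (chain P g k) :=
  hs.pgroup.to_le (chain_le_of_le (Nat.zero_le k))

theorem Setup.index (hs : Setup P g p) : ∀ k, (∀ j ≤ k, chain P g j ≠ ⊥) →
    (chain P g (k + 1)).relIndex (chain P g k) = p ∧
      (chain P g (k + 1)).relIndex (down g (chain P g k)) = p := by
  intro k
  induction k using Nat.strong_induction_on with
  | _ k ih =>
  intro hk
  rcases k with _ | k
  · exact ⟨hs.index₀, hs.index₁⟩
  have ih' : ∀ j ≤ k, (chain P g (j + 1)).relIndex (chain P g j) = p ∧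
      (chain P g (j + 1)).relIndex (down g (chain P g j)) = p :=
    fun j hj => ih j (by omega) fun i hi => hk i (by omega)
  set A := chain P g (k + 1) with hA
  have hCp : IsPGroup p (down g (chain P g k)) := (hs.chain_pgroup k).map _
  have hBi : (down g A).relIndex (down g (chain P g k)) = p := by
    rw [relIndex_down]; exact (ih' k le_rfl).1
  by_cases hAB : A = down g A
  · exfalso
    refine hk (k + 1) le_rfl (hs.faithful A (chain_le_of_le (Nat.zero_le _)) ?_ hAB.symm)
    suffices ∀ i ≤ k, chain P g (k - i) ≤ Subgroup.normalizer (A : Set G) by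
      simpa [chain] using this k le_rfl
    intro i
    induction i with
    | zero =>
      intro _
      exact le_normalizer_of_relIndex (hs.chain_pgroup k) (chain_succ_le k) (ih' k le_rfl).1
    | succ i ihi =>
      intro hi
      obtain ⟨j, hj⟩ : ∃ j, k - i = j + 1 := ⟨k - i - 1, by omega⟩
      have hprev := ihi (by omega)
      rw [hj] at hprev
      rw [show k - (i + 1) = j by omega]
      have hne : chain P g (j + 1) ≠ down g (chain P g (j + 1)) := by
        intro e
        have h := (ih' (j + 1) (by omega)).1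
        rw [show chain P g (j + 1 + 1) = chain P g (j + 1) from inf_eq_left.2 e.le,
          Subgroup.relIndex_self] at h
        exact hp.out.ne_one h.symm
      have hd : down g (chain P g (j + 1)) ≤ Subgroup.normalizer (A : Set G) := by
        rw [hAB]
        exact (down_mono g hprev).trans (Subgroup.le_normalizer_map _)
      have hC : down g (chain P g j) ≤ Subgroup.normalizer (A : Set G) := by
        rw [← sup_eq_of_relIndex (chain_succ_le_down j) (down_mono g (chain_succ_le j))
          (ih' j (by omega)).2 (by rw [relIndex_down]; exact (ih' j (by omega)).1) hne]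
        exact sup_le hprev hd
      have hu : up g A = A := by conv_lhs => rw [hAB, up_down]
      rw [← up_down g (chain P g j), ← hu]
      exact (Subgroup.map_mono hC).trans (Subgroup.le_normalizer_map _)
  · exact relIndex_inf hCp (chain_succ_le_down k) (down_mono g (chain_succ_le k)) (ih' k le_rfl).2 hBi hAB

theorem Setup.exists_length (hs : Setup P g p) :
    ∃ t, chain P g t = ⊥ ∧ ∀ j < t, chain P g j ≠ ⊥ := by
  classical
  have hex : ∃ t, chain P g t = ⊥ := by
    by_contra h
    simp only [not_exists] at h
    have hdec : ∀ k, Nat.card (chain P g k) + k ≤ Nat.card P := by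
      intro k
      induction k with
      | zero => simp [chain]
      | succ k ih =>
        have h1 := Subgroup.relIndex_mul_relIndex ⊥ _ _ bot_le (chain_succ_le (P := P) (g := g) k)
        rw [Subgroup.relIndex_bot_left, Subgroup.relIndex_bot_left,
          (hs.index k fun j _ => h j).1] at h1
        have h2 : Nat.card (chain P g (k + 1)) * 2 ≤ Nat.card (chain P g k) := by
          rw [← h1]; exact Nat.mul_le_mul_left _ hp.out.two_le
        have := Nat.card_pos (α := chain P g (k + 1))
        omega
    have := hdec (Nat.card P)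
    have := Nat.card_pos (α := chain P g (Nat.card P))
    omega
  exact ⟨Nat.find hex, Nat.find_spec hex, fun j hj => Nat.find_min hex hj⟩

/-! ### Generators -/

theorem Setup.card_chain (hs : Setup P g p) {t : ℕ} (ht : chain P g t = ⊥)
    (hmin : ∀ j < t, chain P g j ≠ ⊥) : ∀ len ≤ t, Nat.card (chain P g (t - len)) = p ^ len := by
  intro len
  induction len with
  | zero => intro _; rw [Nat.sub_zero, ht, Subgroup.card_bot, pow_zero]
  | succ l ih =>
    intro hl
    obtain ⟨j, hj⟩ : ∃ j, t - l = j + 1 := ⟨t - l - 1, by omega⟩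
    have h1 := Subgroup.relIndex_mul_relIndex ⊥ _ _ bot_le (chain_succ_le (P := P) (g := g) j)
    rw [Subgroup.relIndex_bot_left, Subgroup.relIndex_bot_left,
      (hs.index j fun i hi => hmin i (by omega)).1, ← hj, ih (by omega)] at h1
    rw [show t - (l + 1) = j by omega, ← h1, pow_succ]

/-- The subgroup generated by a window of the sequence. -/
def win (x : ℕ → G) (lo hi : ℕ) : Subgroup G := Subgroup.closure (x '' Set.Ico lo hi)

omit [Finite G] in
theorem mem_win {x : ℕ → G} {lo hi i : ℕ} (h1 : lo ≤ i) (h2 : i < hi) : x i ∈ win x lo hi :=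
  Subgroup.subset_closure ⟨i, ⟨h1, h2⟩, rfl⟩

omit [Finite G] in
theorem win_mono (x : ℕ → G) {lo hi lo' hi' : ℕ} (h1 : lo' ≤ lo) (h2 : hi ≤ hi') :
    win x lo hi ≤ win x lo' hi' :=
  Subgroup.closure_mono (Set.image_mono (Set.Ico_subset_Ico h1 h2))

omit [Finite G] in
theorem win_sup (x : ℕ → G) {a b c : ℕ} (h1 : a ≤ b) (h2 : b ≤ c) :
    win x a b ⊔ win x b c = win x a c := by
  rw [win, win, win, ← Subgroup.closure_union, ← Set.image_union, Set.Ico_union_Ico_eq_Ico h1 h2]

omit [Finite G] in
theorem commute_win {x : ℕ → G} {lo hi : ℕ} {e : G} (h : ∀ i, lo ≤ i → i < hi → Commute e (x i))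
    {w : G} (hw : w ∈ win x lo hi) : Commute e w := by
  have : win x lo hi ≤ Subgroup.centralizer ({e} : Set G) := by
    refine (Subgroup.closure_le _).2 ?_
    rintro _ ⟨i, ⟨hi1, hi2⟩, rfl⟩
    exact Subgroup.mem_centralizer_singleton_iff.2 (h i hi1 hi2).symm.eq
  exact (Subgroup.mem_centralizer_singleton_iff.1 (this hw)).symm

theorem Setup.exists_seq (hs : Setup P g p) {t : ℕ} (ht : chain P g t = ⊥)
    (hmin : ∀ j < t, chain P g j ≠ ⊥) (ht0 : 1 ≤ t) (n : ℕ) :
    ∃ x : ℕ → G, (∀ i, x (i + 1) = g * x i * g⁻¹) ∧ P = win x n (n + t) ∧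
      ∀ a len, len ≤ t → Nat.card (win x a (a + len)) = p ^ len := by
  have hcard := hs.card_chain ht hmin
  obtain ⟨y, hy⟩ : ∃ y, chain P g (t - 1) = Subgroup.zpowers y := by
    have h1 := hcard 1 ht0
    rw [pow_one] at h1
    have := isCyclic_of_prime_card (α := chain P g (t - 1)) h1
    obtain ⟨⟨y, hy⟩, hgen⟩ := this.exists_generator
    refine ⟨y, le_antisymm (fun z hz => ?_) (Subgroup.zpowers_le.2 hy)⟩
    obtain ⟨k, hk⟩ := hgen ⟨z, hz⟩
    exact ⟨k, congrArg Subtype.val hk⟩
  set x : ℕ → G := fun i => (g ^ i * (g ^ n)⁻¹) * y * (g ^ i * (g ^ n)⁻¹)⁻¹ with hx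
  have hxs : ∀ i, x (i + 1) = g * x i * g⁻¹ := fun i => by
    simp only [hx, pow_succ']; group
  have hup : ∀ a b, up g (win x a b) = win x (a + 1) (b + 1) := fun a b => by
    rw [up, win, MonoidHom.map_closure, win, Set.image_image]
    congr 1
    ext z
    simp only [Set.mem_image, Set.mem_Ico]
    constructor
    · rintro ⟨i, hi, rfl⟩; exact ⟨i + 1, by omega, by rw [hxs]; rfl⟩
    · rintro ⟨i, hi, rfl⟩
      obtain ⟨i, rfl⟩ : ∃ j, i = j + 1 := ⟨i - 1, by omega⟩
      exact ⟨i, by omega, by rw [hxs]; rfl⟩
  have hchain : ∀ l, l < t → chain P g (t - (l + 1)) = win x n (n + (l + 1)) := by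
    intro l
    induction l with
    | zero =>
      intro _
      have e : Set.Ico n (n + 1) = {n} := by ext i; simp only [Set.mem_Ico, Set.mem_singleton_iff]; omega
      have hxn : x n = y := by simp [hx]
      rw [hy, zero_add, win, e, Set.image_singleton, hxn, Subgroup.zpowers_eq_closure]
    | succ l ih =>
      intro hl
      obtain ⟨j, hj⟩ : ∃ j, t - (l + 1) = j + 1 := ⟨t - (l + 1) - 1, by omega⟩
      rw [show t - (l + 1 + 1) = j by omega]
      have hne : chain P g (j + 1) ≠ down g (chain P g (j + 1)) := by
        intro e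
        have h := (hs.index (j + 1) fun i hi => hmin i (by omega)).1
        rw [show chain P g (j + 1 + 1) = chain P g (j + 1) from inf_eq_left.2 e.le,
          Subgroup.relIndex_self] at h
        exact hp.out.ne_one h.symm
      have hi' := hs.index j fun i hi => hmin i (by omega)
      have h2 := sup_eq_of_relIndex (chain_succ_le_down j) (down_mono g (chain_succ_le (P := P) (g := g) j))
        hi'.2 (by rw [relIndex_down]; exact hi'.1) hne
      have h3 := congrArg (up g) h2
      rw [up_down, up, Subgroup.map_sup, ← up, ← up, up_down, ← hj, ih (by omega), hup] at h3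
      rw [← h3]
      refine le_antisymm (sup_le (win_mono x (by omega) (by omega)) (win_mono x le_rfl (by omega))) ?_
      refine (Subgroup.closure_le _).2 ?_
      rintro _ ⟨i, ⟨h4, h5⟩, rfl⟩
      by_cases h6 : i = n
      · subst h6; exact Subgroup.mem_sup_right (mem_win le_rfl (by omega))
      · exact Subgroup.mem_sup_left (mem_win (by omega) (by omega))
  refine ⟨x, hxs, ?_, fun a len hlen => ?_⟩
  · have := hchain (t - 1) (by omega)
    rwa [show t - (t - 1 + 1) = 0 by omega, show t - 1 + 1 = t by omega] at this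
  · have hshift : ∀ a, Nat.card (win x (a + 1) (a + 1 + len)) = Nat.card (win x a (a + len)) := fun a => by
      rw [show a + 1 + len = a + len + 1 by omega, ← hup, up,
        Subgroup.card_map_of_injective (MulAut.conj g).injective]
    have hall : ∀ a, Nat.card (win x a (a + len)) = Nat.card (win x 0 (0 + len)) := fun a => by
      induction a with
      | zero => rfl
      | succ a ih => rw [hshift, ih]
    rw [hall, ← hall n]
    rcases len with _ | l
    · simp [win]
    · rw [← hchain l (by omega), hcard (l + 1) hlen]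

/-! ### The commutator argument -/

theorem Setup.bound (hs : Setup P g p) {n : ℕ} (hn : 1 ≤ n) (K : Subgroup G)
    (hK : ∀ i ≤ n, P.map (MulAut.conj (g ^ i)⁻¹).toMonoidHom ≤ K)
    (hKle : K ≤ ⨆ i ∈ Finset.range (n + 1), P.map (MulAut.conj (g ^ i)⁻¹).toMonoidHom)
    (h2 : P ⊓ Subgroup.centralizer (K : Set G) = ⊥) :
    ∃ t : ℕ, Nat.card P = p ^ t ∧ 1 ≤ t ∧ t ≤ 3 * n ∧ t ≠ 3 * n - 1 := by
  classical
  obtain ⟨t, ht, hmin⟩ := hs.exists_length
  have hcardP : Nat.card P = p ^ t := by
    have := hs.card_chain ht hmin t le_rfl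
    rwa [Nat.sub_self] at this
  have ht0 : 1 ≤ t := by
    by_contra h
    obtain rfl : t = 0 := by omega
    have h' := hs.index₀
    rw [show P = ⊥ from ht, Subgroup.relIndex_bot_right] at h'
    exact hp.out.ne_one h'.symm
  refine ⟨t, hcardP, ht0, ?_⟩
  obtain ⟨x, hxs, hPw, hcard⟩ := hs.exists_seq ht hmin ht0 n
  -- normality and index of windows
  have hwp : ∀ a len, len ≤ t → IsPGroup p (win x a (a + len)) := fun a len h =>
    IsPGroup.of_card (hcard a len h)
  have hidxL : ∀ a m, m + 1 ≤ t → (win x a (a + m)).relIndex (win x a (a + (m + 1))) = p := by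
    intro a m hm
    have h1 := Subgroup.relIndex_mul_relIndex ⊥ _ _ bot_le
      (win_mono x (le_refl a) (by omega : a + m ≤ a + (m + 1)))
    rw [Subgroup.relIndex_bot_left, Subgroup.relIndex_bot_left, hcard a m (by omega),
      hcard a (m + 1) hm, pow_succ] at h1
    exact Nat.eq_of_mul_eq_mul_left (pow_pos hp.out.pos m) h1
  have hidxR : ∀ a m, m + 1 ≤ t → (win x (a + 1) (a + 1 + m)).relIndex (win x a (a + (m + 1))) = p := by
    intro a m hm
    have h1 := Subgroup.relIndex_mul_relIndex ⊥ _ _ bot_le
      (win_mono x (by omega : a ≤ a + 1) (by omega : a + 1 + m ≤ a + (m + 1)))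
    rw [Subgroup.relIndex_bot_left, Subgroup.relIndex_bot_left, hcard (a + 1) m (by omega),
      hcard a (m + 1) hm, pow_succ] at h1
    exact Nat.eq_of_mul_eq_mul_left (pow_pos hp.out.pos m) h1
  -- a commutator lies strictly between
  have hcomm : ∀ a m, 1 ≤ m → m < t → ⁅x a, x (a + m)⁆ ∈ win x (a + 1) (a + m) := by
    intro a m hm hmt
    have hW := hwp a (m + 1) (by omega)
    have hLle := win_mono x (le_refl a) (by omega : a + m ≤ a + (m + 1))
    have hRle := win_mono x (by omega : a ≤ a + 1) (by omega : a + 1 + m ≤ a + (m + 1))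
    have hne : win x a (a + m) ≠ win x (a + 1) (a + 1 + m) := by
      intro e
      have h3 : win x a (a + (m + 1)) ≤ win x a (a + m) := by
        rw [← win_sup x (by omega : a ≤ a + m) (by omega : a + m ≤ a + (m + 1))]
        exact sup_le le_rfl (e ▸ win_mono x (by omega) (by omega))
      have h4 := hidxL a m (by omega)
      rw [Subgroup.relIndex_eq_one.2 h3] at h4
      exact hp.out.ne_one h4.symm
    have hinf : win x (a + 1) (a + m) = win x a (a + m) ⊓ win x (a + 1) (a + 1 + m) := by
      refine Subgroup.eq_of_le_of_card_ge (le_inf (win_mono x (by omega) le_rfl)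
        (win_mono x le_rfl (by omega))) ?_
      obtain ⟨hi, -⟩ := relIndex_inf hW hLle hRle (hidxL a m (by omega)) (hidxR a m (by omega)) hne
      have h1 := Subgroup.relIndex_mul_relIndex ⊥ _ (win x a (a + m)) bot_le
        (inf_le_left : win x a (a + m) ⊓ win x (a + 1) (a + 1 + m) ≤ _)
      rw [Subgroup.relIndex_bot_left, Subgroup.relIndex_bot_left, hi, hcard a m (by omega)] at h1
      rw [show a + m = a + 1 + (m - 1) by omega, hcard (a + 1) (m - 1) (by omega)]
      obtain ⟨m', rfl⟩ : ∃ m', m = m' + 1 := ⟨m - 1, by omega⟩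
      rw [pow_succ] at h1
      rw [show m' + 1 - 1 = m' by omega, show a + 1 + m' = a + (m' + 1) by omega]
      exact le_of_eq (Nat.eq_of_mul_eq_mul_right hp.out.pos h1)
    rw [hinf]
    have hL : x a ∈ win x a (a + m) := mem_win le_rfl (by omega)
    have hR : x (a + m) ∈ win x (a + 1) (a + 1 + m) := mem_win (by omega) (by omega)
    have ha' : x a ∈ win x a (a + (m + 1)) := mem_win le_rfl (by omega)
    have hb' : x (a + m) ∈ win x a (a + (m + 1)) := mem_win (by omega) (by omega)
    refine ⟨?_, ?_⟩
    · rw [commutatorElement_def, mul_assoc (x a), mul_assoc]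
      refine mul_mem hL ?_
      exact (Subgroup.mem_normalizer_iff.1 (le_normalizer_of_relIndex hW hLle (hidxL a m (by omega)) hb')
        _).1 (inv_mem hL)
    · show ⁅x a, x (a + m)⁆ ∈ win x (a + 1) (a + 1 + m)
      rw [commutatorElement_def]
      refine mul_mem ?_ (inv_mem hR)
      exact (Subgroup.mem_normalizer_iff.1 (le_normalizer_of_relIndex hW hRle (hidxR a m (by omega)) ha')
        _).1 hR
  -- the distance `d`
  have hshift : ∀ a m, Commute (x a) (x (a + m)) ↔ Commute (x 0) (x m) := by
    intro a m
    induction a with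
    | zero => simp
    | succ a ih =>
      rw [← ih, show a + 1 + m = a + m + 1 by omega, hxs a, hxs (a + m)]
      exact (Commute.conj_iff g)
  have hex : ∃ d, d = t ∨ (1 ≤ d ∧ ¬ Commute (x 0) (x d)) := ⟨t, Or.inl rfl⟩
  set d := Nat.find hex with hd
  have hdt : d ≤ t := Nat.find_min' hex (Or.inl rfl)
  have hdclose : ∀ i j, i ≤ j + (d - 1) → j ≤ i + (d - 1) → Commute (x i) (x j) := by
    have key : ∀ i m, m ≤ d - 1 → Commute (x i) (x (i + m)) := by
      intro i m hm
      rcases Nat.eq_zero_or_pos m with rfl | hm0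
      · exact Commute.refl _
      rw [hshift]
      by_contra hc
      exact Nat.find_min hex (show m < d by omega) (Or.inr ⟨hm0, hc⟩)
    intro i j h1 h2
    rcases le_total i j with h | h
    · obtain ⟨m, rfl⟩ := Nat.exists_eq_add_of_le h; exact key i m (by omega)
    · obtain ⟨m, rfl⟩ := Nat.exists_eq_add_of_le h; exact (key j m (by omega)).symm
  have hd1 : 1 ≤ d := by
    by_contra h
    rcases Nat.find_spec hex with h1 | ⟨h1, -⟩ <;> omega
  -- the centre bound
  have hA : 2 * d ≤ t + n := by
    by_contra hlt
    set j := if d - 1 < n + t then d - 1 else n + t - 1 with hj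
    have hj1 : n ≤ j ∧ j < n + t ∧ j ≤ d - 1 ∧ t + n ≤ j + d := by rw [hj]; split <;> omega
    have hxj : x j ∈ P ⊓ Subgroup.centralizer (K : Set G) := by
      refine ⟨by rw [hPw]; exact mem_win hj1.1 hj1.2.1, ?_⟩
      have hwin : K ≤ win x 0 (n + t) := by
        refine hKle.trans (iSup₂_le fun i hi => ?_)
        rw [Finset.mem_range] at hi
        rw [hPw]
        have e : ∀ a b, (win x (a + i) (b + i)).map (MulAut.conj (g ^ i)⁻¹).toMonoidHom = win x a b := by
          intro a b
          clear hi
          induction i generalizing a b with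
          | zero => simp [Subgroup.map_id]; exact Subgroup.map_id _
          | succ i ihi =>
            have hu : up g (win x (a + i) (b + i)) = win x (a + i + 1) (b + i + 1) := by
              rw [up, win, MonoidHom.map_closure, win, Set.image_image]
              congr 1
              ext z
              simp only [Set.mem_image, Set.mem_Ico]
              constructor
              · rintro ⟨c, hc, rfl⟩; exact ⟨c + 1, by omega, by rw [hxs]; rfl⟩
              · rintro ⟨c, hc, rfl⟩
                obtain ⟨c, rfl⟩ : ∃ c', c = c' + 1 := ⟨c - 1, by omega⟩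
                exact ⟨c, by omega, by rw [hxs]; rfl⟩
            rw [show a + (i + 1) = a + i + 1 by omega, show b + (i + 1) = b + i + 1 by omega, ← hu, up,
              Subgroup.map_map]
            conv_rhs => rw [← ihi a b]
            congr 1
            ext z
            simp only [MonoidHom.comp_apply, MulEquiv.coe_toMonoidHom, MulAut.conj_apply, pow_succ]
            group
        have := e (n - i) (n + t - i)
        rw [show n - i + i = n by omega, show n + t - i + i = n + t by omega] at this
        rw [this]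
        exact win_mono x (Nat.zero_le _) (by omega)
      intro z hz
      exact (commute_win (fun i _ hi => hdclose j i (by omega) (by omega)) (hwin hz)).eq.symm
    rw [h2, Subgroup.mem_bot] at hxj
    have hc := hcard j 1 ht0
    rw [pow_one] at hc
    have e : win x j (j + 1) = ⊥ := by
      rw [win, Subgroup.closure_eq_bot_iff]
      rintro _ ⟨i, ⟨hi1, hi2⟩, rfl⟩
      obtain rfl : i = j := by omega
      exact hxj
    rw [e, Subgroup.card_bot] at hc
    exact hp.out.one_lt.ne hc
  -- the Sims bound
  have hB : d = t ∨ 2 * t ≤ 3 * d := by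
    by_contra hcon
    simp only [not_or] at hcon
    obtain ⟨hdne, hlt⟩ := hcon
    have hdt' : d < t := by omega
    have hncomm : ∀ a, ¬ Commute (x a) (x (a + d)) := by
      intro a hc
      rw [hshift] at hc
      exact ((Nat.find_spec hex).resolve_left hdne).2 hc
    -- the commutator at `a = d`
    set c := ⁅x d, x (d + d)⁆ with hc
    have hcmem : c ∈ win x (d + 1) (d + d) := hcomm d d hd1 hdt'
    have hcne : c ≠ 1 := fun h => hncomm d (commutatorElement_eq_one_iff_commute.1 h)
    have hex2 : ∃ m, d + d ≤ m + (d + 1) ∨ c ∉ win x (d + 1 + (m + 1)) (d + d) := ⟨d, Or.inl (by omega)⟩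
    set r := Nat.find hex2 with hr
    have hr1 : c ∈ win x (d + 1 + r) (d + d) := by
      rcases Nat.eq_zero_or_pos r with h0 | h0
      · rw [h0]; exact hcmem
      · have := Nat.find_min hex2 (show r - 1 < r by omega)
        simp only [not_or, not_not] at this
        rw [show r - 1 + 1 = r by omega] at this
        exact this.2
    have hrd : d + 1 + r < d + d := by
      by_contra h
      apply hcne
      rw [← Subgroup.mem_bot, show (⊥ : Subgroup G) = win x (d + 1 + r) (d + d) by
        rw [win, Set.Ico_eq_empty (by omega), Set.image_empty, Subgroup.closure_empty]]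
      exact hr1
    have hr2 : c ∉ win x (d + 1 + (r + 1)) (d + d) := (Nat.find_spec hex2).resolve_left (by omega)
    have hex3 : ∃ m, c ∈ win x (d + 1) (d + 1 + m) :=
      ⟨d - 1, by rw [show d + 1 + (d - 1) = d + d by omega]; exact hcmem⟩
    set s := Nat.find hex3 with hsdef
    have hs1 : c ∈ win x (d + 1) (d + 1 + s) := Nat.find_spec hex3
    have hs0 : 1 ≤ s := by
      by_contra h
      apply hcne
      rw [← Subgroup.mem_bot, show (⊥ : Subgroup G) = win x (d + 1) (d + 1 + s) by
        rw [win, Set.Ico_eq_empty (by omega), Set.image_empty, Subgroup.closure_empty]]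
      exact hs1
    have hsd : s ≤ d - 1 := Nat.find_min' hex3 (by rw [show d + 1 + (d - 1) = d + d by omega]; exact hcmem)
    have hs2 : c ∉ win x (d + 1) (d + 1 + (s - 1)) := Nat.find_min hex3 (by omega)
    have hrs : r + 1 ≤ s := by
      by_contra h
      apply hcne
      have hdis : win x (d + 1) (d + 1 + r) ⊓ win x (d + 1 + r) (d + d) = ⊥ := by
        set A := win x (d + 1) (d + 1 + r)
        set B := win x (d + 1 + r) (d + d)
        have hab : A ≤ Subgroup.normalizer (B : Set G) := fun z hz =>
          Subgroup.centralizer_le_normalizer _ (fun w hw =>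
            (commute_win (fun i hi1 hi2 => (commute_win (fun j hj1 hj2 => hdclose i j (by omega) (by omega))
              hz).symm) hw).eq.symm)
        have hcA := hcard (d + 1) r (by omega)
        have hcB := hcard (d + 1 + r) (d - 1 - r) (by omega)
        rw [show d + 1 + r + (d - 1 - r) = d + d by omega] at hcB
        have hcU := hcard (d + 1) (d - 1) (by omega)
        rw [show d + 1 + (d - 1) = d + d by omega,
          ← win_sup x (by omega : d + 1 ≤ d + 1 + r) (by omega : d + 1 + r ≤ d + d)] at hcU
        have e1 := Subgroup.relIndex_mul_relIndex ⊥ B (A ⊔ B) bot_le le_sup_right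
        rw [Subgroup.relIndex_bot_left, Subgroup.relIndex_bot_left,
          relIndex_sup_of_normalizer hab, hcB, hcU] at e1
        have e2 : B.relIndex A = p ^ r := by
          refine Nat.eq_of_mul_eq_mul_left (pow_pos hp.out.pos (d - 1 - r)) ?_
          rw [e1, ← pow_add]; congr 1; omega
        have e3 := Subgroup.relIndex_mul_relIndex ⊥ (A ⊓ B) A bot_le inf_le_left
        rw [Subgroup.relIndex_bot_left, Subgroup.relIndex_bot_left, Subgroup.inf_relIndex_left,
          e2, hcA] at e3
        exact Subgroup.card_eq_one.1 ((mul_eq_right₀ (pow_ne_zero r hp.out.ne_zero)).1 e3)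
      rw [← Subgroup.mem_bot, ← hdis]
      exact ⟨win_mono x le_rfl (by omega) hs1, hr1⟩
    -- `x u` with a power of it central
    have hpow : ∀ u v : ℕ, ∀ e : G, ¬ Commute e (x u) → ∀ k : ℤ, Commute e (x u ^ k) →
        x u ^ k ∈ (⊥ : Subgroup G) ∨ v < 0 := by
      intro u v e hne k hk
      left
      rw [Subgroup.mem_bot]
      by_contra hk1
      apply hne
      have hz : Subgroup.zpowers (x u ^ k) = win x u (u + 1) := by
        have e1 : Set.Ico u (u + 1) = {u} := by
          ext i; simp only [Set.mem_Ico, Set.mem_singleton_iff]; omega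
        refine Subgroup.eq_of_le_of_card_ge (Subgroup.zpowers_le.2 (zpow_mem (mem_win le_rfl (by omega)) k)) ?_
        have hdvd := Subgroup.card_dvd_of_le
          (Subgroup.zpowers_le.2 (zpow_mem (mem_win (le_refl u) (by omega : u < u + 1)) k) :
            Subgroup.zpowers (x u ^ k) ≤ win x u (u + 1))
        rw [hcard u 1 ht0, pow_one] at hdvd ⊢
        rcases hp.out.eq_one_or_self_of_dvd _ hdvd with h | h
        · exact absurd (Subgroup.zpowers_eq_bot.1 (Subgroup.card_eq_one.1 h)) hk1
        · exact h.ge
      obtain ⟨l, hl⟩ : x u ∈ Subgroup.zpowers (x u ^ k) := hz ▸ mem_win le_rfl (by omega)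
      rw [← hl]; exact hk.zpow_right l
    -- the first term
    by_cases hcase : r + 1 + d < t
    · set e := x (d + 1 + r + d) with he
      have hw := hcomm d (r + 1 + d) (by omega) hcase
      rw [show d + (r + 1 + d) = d + 1 + r + d by omega] at hw
      set w := ⁅e, x d⁆ with hwdef
      have hw' : w ∈ win x (d + 1) (d + 1 + r + d) := by
        have := inv_mem hw
        rwa [commutatorElement_inv] at this
      have hw1 : Commute w (x (d + d)) :=
        (commute_win (fun i hi1 hi2 => hdclose (d + d) i (by omega) (by omega)) hw').symm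
      have he1 : Commute e (x (d + d)) := hdclose _ _ (by omega) (by omega)
      have hwc : Commute w c := commute_win (fun i hi1 hi2 =>
        (commute_win (fun j hj1 hj2 => hdclose i j (by omega) (by omega)) hw').symm) hr1
      have hec : Commute e c := by
        have h1 : e * x d * e⁻¹ = w * x d := by rw [hwdef, commutatorElement_def]; group
        have h2 : e * x (d + d) * e⁻¹ = x (d + d) := by rw [he1.eq, mul_inv_cancel_right]
        have h3 : e * c * e⁻¹ = c := by
          calc e * c * e⁻¹ = ⁅e * x d * e⁻¹, e * x (d + d) * e⁻¹⁆ := by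
                rw [hc, commutatorElement_def, commutatorElement_def]; group
            _ = ⁅w * x d, x (d + d)⁆ := by rw [h1, h2]
            _ = w * c * w⁻¹ * ⁅w, x (d + d)⁆ := by
                rw [hc, commutatorElement_def, commutatorElement_def, commutatorElement_def]; group
            _ = c := by
                rw [commutatorElement_eq_one_iff_commute.2 hw1, mul_one, hwc.eq, mul_inv_cancel_right]
        exact mul_inv_eq_iff_eq_mul.1 h3
      -- split off the first term
      have hsplit : c ∈ ((Subgroup.zpowers (x (d + 1 + r)) ⊔ win x (d + 1 + (r + 1)) (d + d) : Subgroup G) : Set G) := by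
        have e1 : Set.Ico (d + 1 + r) (d + 1 + (r + 1)) = {d + 1 + r} := by
          ext i; simp only [Set.mem_Ico, Set.mem_singleton_iff]; omega
        rw [SetLike.mem_coe, Subgroup.zpowers_eq_closure, ← Set.image_singleton, ← e1]
        exact (win_sup x (by omega) (by omega)).ge hr1
      rw [Subgroup.coe_mul_of_left_le_normalizer_right] at hsplit
      swap
      · exact Subgroup.zpowers_le.2 (Subgroup.centralizer_le_normalizer _ fun w hw =>
          (commute_win (fun i hi1 hi2 => hdclose (d + 1 + r) i (by omega) (by omega)) hw).eq.symm)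
      obtain ⟨_, ⟨k, rfl⟩, v, hv, hkv⟩ := hsplit
      have hev : Commute e v := commute_win (fun i hi1 hi2 => hdclose _ _ (by omega) (by omega)) hv
      have hek : Commute e (x (d + 1 + r) ^ k) := by
        have : x (d + 1 + r) ^ k = c * v⁻¹ := eq_mul_inv_of_mul_eq hkv
        rw [this]; exact hec.mul_right hev.inv_right
      have hne : ¬ Commute e (x (d + 1 + r)) := fun h => hncomm (d + 1 + r) h.symm
      rcases hpow _ 0 e hne k hek with h | h
      · rw [Subgroup.mem_bot] at h
        apply hr2
        simp only [] at hkv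
        rw [h, one_mul] at hkv
        exact hkv ▸ hv
      · exact Nat.not_lt_zero _ h
    -- the last term
    have hcase2 : d + d < s + t := by omega
    set e := x s with he
    have hw := hcomm s (d + d - s) (by omega) (by omega)
    rw [show s + (d + d - s) = d + d by omega] at hw
    set w := ⁅e, x (d + d)⁆ with hwdef
    have hw1 : Commute (x d) w := commute_win (fun i hi1 hi2 => hdclose d i (by omega) (by omega)) hw
    have he1 : Commute e (x d) := hdclose _ _ (by omega) (by omega)
    have hwc : Commute w c := commute_win (fun i hi1 hi2 =>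
      (commute_win (fun j hj1 hj2 => hdclose i j (by omega) (by omega)) hw).symm) hs1
    have hec : Commute e c := by
      have h1 : e * x (d + d) * e⁻¹ = w * x (d + d) := by rw [hwdef, commutatorElement_def]; group
      have h2 : e * x d * e⁻¹ = x d := by rw [he1.eq, mul_inv_cancel_right]
      have h3 : e * c * e⁻¹ = c := by
        calc e * c * e⁻¹ = ⁅e * x d * e⁻¹, e * x (d + d) * e⁻¹⁆ := by
              rw [hc, commutatorElement_def, commutatorElement_def]; group
          _ = ⁅x d, w * x (d + d)⁆ := by rw [h1, h2]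
          _ = ⁅x d, w⁆ * (w * c * w⁻¹) := by
              rw [hc, commutatorElement_def, commutatorElement_def, commutatorElement_def]; group
          _ = c := by
              rw [commutatorElement_eq_one_iff_commute.2 hw1, one_mul, hwc.eq, mul_inv_cancel_right]
      exact mul_inv_eq_iff_eq_mul.1 h3
    have hsplit : c ∈ ((win x (d + 1) (d + s) ⊔ Subgroup.zpowers (x (d + s)) : Subgroup G) : Set G) := by
      have e1 : Set.Ico (d + s) (d + 1 + s) = {d + s} := by
        ext i; simp only [Set.mem_Ico, Set.mem_singleton_iff]; omega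
      rw [SetLike.mem_coe, Subgroup.zpowers_eq_closure, ← Set.image_singleton, ← e1]
      exact (win_sup x (by omega) (by omega)).ge hs1
    rw [sup_comm, Subgroup.coe_mul_of_left_le_normalizer_right] at hsplit
    swap
    · exact Subgroup.zpowers_le.2 (Subgroup.centralizer_le_normalizer _ fun w hw =>
        (commute_win (fun i hi1 hi2 => hdclose (d + s) i (by omega) (by omega)) hw).eq.symm)
    obtain ⟨_, ⟨k, rfl⟩, v, hv, hkv⟩ := hsplit
    have hev : Commute e v := commute_win (fun i hi1 hi2 => hdclose _ _ (by omega) (by omega)) hv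
    have hek : Commute e (x (d + s) ^ k) := by
      have : x (d + s) ^ k = c * v⁻¹ := eq_mul_inv_of_mul_eq hkv
      rw [this]; exact hec.mul_right hev.inv_right
    have hne : ¬ Commute e (x (d + s)) := fun h => hncomm s (by rwa [show s + d = d + s by omega])
    rcases hpow _ 0 e hne k hek with h | h
    · rw [Subgroup.mem_bot] at h
      apply hs2
      simp only [] at hkv
      rw [h, one_mul] at hkv
      rw [show d + 1 + (s - 1) = d + s by omega]
      exact hkv ▸ hv
    · exact Nat.not_lt_zero _ h
  omega

/-- The hypotheses make `P` a `p`-group. -/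
theorem setup_of_normal (hN : ((P ⊓ down g P).subgroupOf (down g P)).Normal)
    (hidx : (P ⊓ down g P).relIndex (down g P) = p)
    (hf : ∀ Q : Subgroup G, Q ≤ P → (Q.subgroupOf P).Normal → down g Q = Q → Q = ⊥) : Setup P g p := by
  have hf' : ∀ Q : Subgroup G, Q ≤ P → P ≤ Subgroup.normalizer (Q : Set G) → down g Q = Q → Q = ⊥ :=
    fun Q h1 h2 h3 => hf Q h1 ((Subgroup.normal_subgroupOf_iff_le_normalizer h1).2 h2) h3
  set O := Subgroup.closure {x : G | x ∈ P ∧ Nat.Coprime (orderOf x) p} with hO
  have hOP : O ≤ P := (Subgroup.closure_le _).2 fun x hx => hx.1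
  have hdown : down g O = Subgroup.closure {x : G | x ∈ down g P ∧ Nat.Coprime (orderOf x) p} := by
    rw [down, hO, MonoidHom.map_closure]
    congr 1
    ext y
    constructor
    · rintro ⟨x, ⟨hx, hc⟩, rfl⟩
      exact ⟨Subgroup.mem_map_of_mem _ hx,
        by rw [orderOf_injective _ (MulAut.conj g⁻¹).injective]; exact hc⟩
    · rintro ⟨⟨x, hx, rfl⟩, hc⟩
      exact ⟨x, ⟨hx, by rwa [orderOf_injective _ (MulAut.conj g⁻¹).injective] at hc⟩, rfl⟩
  have hle : down g O ≤ O := by
    rw [hdown]
    refine Subgroup.closure_mono ?_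
    rintro x ⟨hx, hc⟩
    have := CfsgLib.Transfer.mem_of_coprime_of_index_eq_pow (p := p)
      ((P ⊓ down g P).subgroupOf (down g P)) (k := 1) (by rw [pow_one]; exact hidx)
      (g := ⟨x, hx⟩) (by rw [← Subgroup.orderOf_coe]; exact hc)
    exact ⟨(Subgroup.mem_subgroupOf.1 this).1, hc⟩
  have hnorm : P ≤ Subgroup.normalizer (O : Set G) := by
    intro u hu
    refine Subgroup.mem_normalizer_fintype fun y hy => ?_
    have hm : O.map (MulAut.conj u).toMonoidHom ≤ O := by
      rw [hO, MonoidHom.map_closure]
      refine Subgroup.closure_mono ?_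
      rintro _ ⟨x, ⟨hx, hc⟩, rfl⟩
      exact ⟨mul_mem (mul_mem hu hx) (inv_mem hu),
        by rw [orderOf_injective _ (MulAut.conj u).injective]; exact hc⟩
    exact hm (Subgroup.mem_map_of_mem _ hy)
  have hO1 : O = ⊥ := hf' O hOP hnorm (Subgroup.eq_of_le_of_card_ge hle (by rw [card_down]))
  refine ⟨?_, hidx, ?_, hf'⟩
  · intro x
    obtain ⟨j, hj⟩ := CfsgLib.Transfer.exists_pow_coprime_orderOf (p := p) x
    refine ⟨j, Subtype.ext ?_⟩
    rw [← Subgroup.orderOf_coe] at hj
    have : ((x ^ p ^ j : P) : G) ∈ O := Subgroup.subset_closure ⟨(x ^ p ^ j).2, hj⟩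
    rwa [hO1, Subgroup.mem_bot] at this
  · have h1 := Subgroup.relIndex_mul_relIndex ⊥ _ P bot_le (inf_le_left : P ⊓ down g P ≤ P)
    have h2 := Subgroup.relIndex_mul_relIndex ⊥ _ (down g P) bot_le (inf_le_right : P ⊓ down g P ≤ down g P)
    rw [Subgroup.relIndex_bot_left, Subgroup.relIndex_bot_left] at h1 h2
    rw [hidx, card_down, ← h1] at h2
    exact (Nat.eq_of_mul_eq_mul_left Nat.card_pos h2).symm

end CfsgLib.SimsChain
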